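import Cfsg.Agent.Lib.Classical.SLNormal
import Cfsg.Agent.Lib.Lie.SLTwoMult
import Cfsg.Agent.Lib.Grp.Cores
import Cfsg.Agent.Lib.Invol.FourPrime.Tools

/-!
# Minimal covers of perfect groups

A minimal cover of a perfect group is perfect, its kernel has normal Sylow subgroups, and a Sylow subgroup of the
kernel centralised by an element with noncentral image disappears when stem extensions are trivial.
-/

set_option autoImplicit false

namespace Cfsg.Agent.Classical.SLTwoFixed

open Subgroup
open scoped commutatorElement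

universe u v

/-- No two independent commuting elements of order `r`. -/
def NoPair (G : Type u) [Group G] (r : ℕ) : Prop :=
  ∀ a b : G, Commute a b → a ^ r = 1 → b ^ r = 1 → b ≠ 1 → a ∈ Subgroup.zpowers b

theorem NoPair.subgroup {G : Type u} [Group G] {r : ℕ} (h : NoPair G r) (N : Subgroup G) : NoPair N r := by
  intro a b hab ha hb hb1
  obtain ⟨k, hk⟩ := mem_zpowers_iff.1 (h a b (hab.map N.subtype) (by simpa using congrArg Subtype.val ha)
    (by simpa using congrArg Subtype.val hb) fun e => hb1 (Subtype.ext e))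
  exact mem_zpowers_iff.2 ⟨k, Subtype.ext (by simpa using hk)⟩

theorem NoPair.isCyclic {G : Type u} [Group G] [Finite G] {r : ℕ} [Fact r.Prime] (h : NoPair G r) (h2 : r ≠ 2)
    {P : Subgroup G} (hP : IsPGroup r P) : IsCyclic P :=
  Invol.FourPrime.isCyclic_of_no_pair hP h2 fun ⟨u, v, _, _, hu, hv, huv, hne⟩ =>
    hne (h v u huv.symm (hv ▸ pow_orderOf_eq_one v) (hu ▸ pow_orderOf_eq_one u) fun e => by
      rw [e, orderOf_one] at hu
      exact (Fact.out (p := r.Prime)).one_lt.ne' hu.symm)

variable {M : Type u} [Group M] [Finite M] {S : Type v} [Group S]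

/-- A surjection which is surjective on no proper subgroup. -/
structure IsMinCover (π : M →* S) : Prop where
  surj : Function.Surjective π
  min : ∀ N : Subgroup M, N.map π = ⊤ → N = ⊤

theorem exists_minCover (π : M →* S) (hπ : Function.Surjective π) :
    ∃ N : Subgroup M, IsMinCover (π.comp N.subtype) := by
  obtain ⟨N, hN⟩ := (Set.toFinite {N : Subgroup M | N.map π = ⊤}).exists_minimal
    ⟨⊤, Subgroup.map_top_of_surjective π hπ⟩
  refine ⟨N, MonoidHom.range_eq_top.1 (by rw [MonoidHom.range_comp, Subgroup.range_subtype]; exact hN.prop),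
    fun L hL => ?_⟩
  rw [← Subgroup.map_map] at hL
  have := le_antisymm (Subgroup.map_subtype_le L) (hN.le_of_le hL (Subgroup.map_subtype_le L))
  exact Subgroup.map_injective N.subtype_injective
    (by rw [this, ← MonoidHom.range_eq_map, Subgroup.range_subtype])

variable {π : M →* S}

theorem IsMinCover.perfect (hπ : IsMinCover π) (hS : commutator S = ⊤) : commutator M = ⊤ :=
  hπ.min _ (by rw [commutator_def, Subgroup.map_commutator, Subgroup.map_top_of_surjective π hπ.surj, ← commutator_def, hS])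

theorem IsMinCover.sylow_normal (hπ : IsMinCover π) {s : ℕ} [Fact s.Prime] (P : Sylow s π.ker) :
    ((P : Subgroup π.ker).map π.ker.subtype).Normal := by
  refine Subgroup.normalizer_eq_top_iff.1 (hπ.min _ ?_)
  rw [← Subgroup.map_top_of_surjective π hπ.surj, ← Sylow.normalizer_sup_eq_top P, Subgroup.map_sup,
    (Subgroup.map_eq_bot_iff _).2 (le_refl π.ker), sup_bot_eq]

/-- Perfect, with every normal subgroup central or everything. -/
structure IsQuasiSimpleType (S : Type v) [Group S] : Prop where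
  perfect : commutator S = ⊤
  normal : ∀ T : Subgroup S, T.Normal → ¬ T ≤ center S → T = ⊤

/-- Perfect central extensions are trivial. -/
def StemTrivial (S : Type v) [Group S] : Prop :=
  ∀ (E : Type u) [Group E] [Finite E] (σ : E →* S), Function.Surjective σ → σ.ker ≤ center E →
    commutator E = ⊤ → σ.ker = ⊥

theorem IsMinCover.le_center (hπ : IsMinCover π) (hQ : IsQuasiSimpleType S) (N : Subgroup M) [N.Normal] {n : M}
    (hn : π n ∉ center S) (hcomm : ∀ q ∈ N, n * q = q * n) : N ≤ center M := by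
  have hC : centralizer (N : Set M) = ⊤ := hπ.min _ (hQ.normal _ (Subgroup.Normal.map inferInstance π hπ.surj)
    fun h => hn (h ⟨n, mem_centralizer_iff.2 fun q hq => (hcomm q hq).symm, rfl⟩))
  intro q hq
  exact mem_center_iff.2 fun g =>
    (mem_centralizer_iff.1 (hC ▸ Subgroup.mem_top g : g ∈ centralizer (N : Set M)) q hq).symm

theorem IsMinCover.not_dvd_ker (hπ : IsMinCover π) (hQ : IsQuasiSimpleType S) (hst : StemTrivial.{u} S) {s : ℕ}
    [Fact s.Prime] {n : M} (hn : π n ∉ center S)
    (hcomm : ∀ P : Sylow s π.ker, ∀ q : π.ker, q ∈ (P : Subgroup π.ker) → n * q = q * n) :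
    ¬ s ∣ Nat.card π.ker := by
  classical
  obtain ⟨P⟩ := (inferInstance : Nonempty (Sylow s π.ker))
  let W : Subgroup M := (P : Subgroup π.ker).map π.ker.subtype
  haveI hWn : W.Normal := hπ.sylow_normal P
  have hW : W ≤ center M := hπ.le_center hQ W hn (by rintro _ ⟨q, hq, rfl⟩; exact hcomm P q hq)
  have hPc : (P : Subgroup π.ker) ≤ center π.ker := fun q hq => mem_center_iff.2 fun l =>
    Subtype.ext (mem_center_iff.1 (hW ⟨q, hq, rfl⟩) l)
  haveI hPn : (P : Subgroup π.ker).Normal := ⟨fun q hq g => by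
    rw [mem_center_iff.1 (hPc hq) g, mul_inv_cancel_right]; exact hq⟩
  haveI : Unique (Sylow s π.ker) := Sylow.unique_of_normal P hPn
  have hpr := Fact.out (p := s.Prime)
  set m := (center π.ker).index with hm
  set j := (P : Subgroup π.ker).index with hj
  have hsj : ¬ s ∣ j := P.not_dvd_index
  have hsm : ¬ s ∣ m := fun h => hsj (h.trans (Subgroup.index_dvd_of_le hPc))
  let t : π.ker →* center π.ker := MonoidHom.transferCenterPow π.ker
  let h : π.ker →* π.ker :=
    { toFun := fun l => (t l : π.ker) ^ j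
      map_one' := by simp
      map_mul' := fun a b => by
        rw [map_mul, Subgroup.coe_mul,
          (show Commute (t a : π.ker) (t b : π.ker) from mem_center_iff.1 (t b).2 _).mul_pow] }
  have hh : ∀ l : π.ker, h l = l ^ (m * j) := fun l => by
    show ((MonoidHom.transferCenterPow π.ker l : center π.ker) : π.ker) ^ j = _
    rw [pow_mul]
    rfl
  have hhP : ∀ l, h l ∈ (P : Subgroup π.ker) := fun l => by
    have hp : IsPGroup s (zpowers (h l)) := by
      obtain ⟨e, he⟩ := (IsPGroup.iff_card (G := (P : Subgroup π.ker))).1 P.isPGroup'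
      have h1 : h l ^ s ^ e = 1 := by
        rw [hh, ← pow_mul, mul_assoc, ← he, mul_comm j, hj, Subgroup.card_mul_index, mul_comm, pow_mul,
          pow_card_eq_one', one_pow]
      obtain ⟨i, _, hi⟩ := (Nat.dvd_prime_pow hpr).1 (orderOf_dvd_of_pow_eq_one h1)
      exact IsPGroup.of_card (n := i) (by rw [Nat.card_zpowers, hi])
    obtain ⟨Q, hQ'⟩ := hp.exists_le_sylow
    rw [Subsingleton.elim Q P] at hQ'
    exact hQ' (mem_zpowers _)
  -- the kernel is its commutator with the whole group
  let K' : Subgroup M := ⁅(⊤ : Subgroup M), π.ker⁆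
  haveI : K'.Normal := inferInstance
  have hK' : K' ≤ π.ker := Subgroup.commutator_le_right _ _
  let σ : M ⧸ K' →* S := QuotientGroup.lift K' π hK'
  have hσ : σ.ker = ⊥ := hst (M ⧸ K') σ (fun y => by
      obtain ⟨g, rfl⟩ := hπ.surj y
      exact ⟨QuotientGroup.mk g, rfl⟩) (fun y hy => by
      obtain ⟨l, rfl⟩ := QuotientGroup.mk_surjective y
      refine mem_center_iff.2 fun y' => ?_
      obtain ⟨g, rfl⟩ := QuotientGroup.mk_surjective y'
      rw [← commutatorElement_eq_one_iff_mul_comm, ← QuotientGroup.mk'_apply, ← QuotientGroup.mk'_apply,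
        ← map_commutatorElement, QuotientGroup.mk'_apply, QuotientGroup.eq_one_iff]
      exact commutator_mem_commutator (Subgroup.mem_top g) hy) (by
      rw [commutator_def, ← Subgroup.map_top_of_surjective (QuotientGroup.mk' K') (QuotientGroup.mk'_surjective K'),
        ← Subgroup.map_commutator, ← commutator_def, hπ.perfect hQ.perfect])
  have hLK : π.ker ≤ K' := fun l hl => (QuotientGroup.eq_one_iff l).1 (by
    have : (QuotientGroup.mk l : M ⧸ K') ∈ σ.ker := hl
    rwa [hσ, Subgroup.mem_bot] at this)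
  have hKh : K' ≤ h.ker.map π.ker.subtype := Subgroup.commutator_le.2 fun g _ l hl => by
    have hcl : g * l * g⁻¹ ∈ π.ker := (inferInstance : π.ker.Normal).conj_mem l hl g
    refine ⟨⟨g * l * g⁻¹, hcl⟩ * (⟨l, hl⟩ : π.ker)⁻¹, ?_, ?_⟩
    · rw [SetLike.mem_coe, MonoidHom.mem_ker, map_mul, map_inv, mul_inv_eq_one, hh, hh]
      refine Subtype.ext ?_
      show (g * l * g⁻¹) ^ (m * j) = l ^ (m * j)
      have hc : l ^ (m * j) ∈ center M := hW ⟨_, hhP ⟨l, hl⟩, by rw [hh]; rfl⟩
      rw [conj_pow, mem_center_iff.1 hc g, mul_inv_cancel_right]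
    · show g * l * g⁻¹ * l⁻¹ = ⁅g, l⁆
      rw [commutatorElement_def]
  intro hs
  obtain ⟨q, hq⟩ := exists_prime_orderOf_dvd_card' (G := π.ker) s hs
  obtain ⟨q', hq', e⟩ := hKh (hLK q.2)
  rw [Subtype.val_injective e, SetLike.mem_coe, MonoidHom.mem_ker, hh] at hq'
  have := orderOf_dvd_of_pow_eq_one hq'
  rw [hq] at this
  exact (Nat.Prime.dvd_mul hpr).1 this |>.elim hsm hsj

/-- An element of order three centralises a cyclic group of order a power of five which it normalises. -/
theorem centralizes_five {G : Type u} [Group G] [Finite G] {n : G} (hn : n ^ 3 = 1) (P : Subgroup G)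
    (hP : IsPGroup 5 P) (hc : IsCyclic P) (hnorm : ∀ q ∈ P, n * q * n⁻¹ ∈ P) : ∀ q ∈ P, n * q = q * n := by
  haveI : Fact (Nat.Prime 5) := ⟨by norm_num⟩
  have hN : n ∈ normalizer (P : Set G) := Subgroup.mem_normalizer_iff.2 fun q => ⟨fun h => hnorm q h, fun h => by
    have h' := hnorm _ (hnorm _ h)
    have h3 : n * n * n = 1 := by rw [← hn]; simp [pow_succ]
    have e : n * (n * (n * q * n⁻¹) * n⁻¹) * n⁻¹ = (n * n * n) * q * (n * n * n)⁻¹ := by group
    rw [e, h3] at h'
    simpa using h'⟩
  let φ : MulAut P := P.normalizerMonoidHom ⟨n, hN⟩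
  have h3 : φ ^ 3 = 1 := by
    show (P.normalizerMonoidHom ⟨n, hN⟩) ^ 3 = 1
    rw [← map_pow, show (⟨n, hN⟩ : normalizer (P : Set G)) ^ 3 = 1 from Subtype.ext hn, map_one]
  have hd : orderOf φ ∣ Nat.card (MulAut P) := orderOf_dvd_natCard φ
  rw [IsCyclic.card_mulAut] at hd
  obtain ⟨e, he⟩ := IsPGroup.iff_card.1 hP
  have hcop : Nat.Coprime 3 (Nat.totient (Nat.card P)) := by
    rw [he]
    cases e with
    | zero => simp
    | succ e =>
      rw [Nat.totient_prime_pow_succ (by norm_num)]
      exact Nat.Coprime.mul_right ((by norm_num : Nat.Coprime 3 5).pow_right e) (by norm_num)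
  have h1 : orderOf φ = 1 :=
    Nat.eq_one_of_dvd_coprimes hcop (orderOf_dvd_of_pow_eq_one h3) hd
  intro q hq
  have := congrArg (fun f : MulAut P => ((f ⟨q, hq⟩ : P) : G)) (orderOf_eq_one_iff.1 h1)
  exact mul_inv_eq_iff_eq_mul.1 this

section SL

variable {F : Type v} [Field F] [Fintype F]

theorem isQuasiSimpleType_sl (hF : 4 ≤ Fintype.card F) :
    IsQuasiSimpleType (Matrix.SpecialLinearGroup (Fin 2) F) := by
  haveI := PSL_isSimple (F := F) (n := 2) le_rfl fun _ => hF
  have hp : commutator (Matrix.SpecialLinearGroup (Fin 2) F) = ⊤ :=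
    SL_commutator_eq_top fun _ => exists_sq_ne_one_field hF
  exact ⟨hp, fun T hT h => by haveI := hT; exact SL_normal_eq_top hp T h⟩

theorem stemTrivial_sl (h4 : Fintype.card F ≠ 4) (h9 : Fintype.card F ≠ 9) (h5 : 5 ≤ Fintype.card F) :
    StemTrivial.{u} (Matrix.SpecialLinearGroup (Fin 2) F) := fun _ _ _ σ hσ hc hE =>
  Lie.SLMult.ker_eq_bot_two σ hσ hc h4 h9 h5 (hE ▸ le_top)

end SL

end Cfsg.Agent.Classical.SLTwoFixed
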